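import Mathlib.Algebra.Homology.DerivedCategory.KInjective
import Mathlib.Algebra.Homology.HomotopyCategory.HomComplexSingle
import Mathlib.Algebra.Homology.HomotopyCategory.HomComplexShift

/-!
# Morphisms `P[0] ⟶ M⟦n⟧` in the derived category, for `M` K-injective

For an object `P` of an abelian category and a K-injective complex `M`, every morphism
`Q.obj (P[0]) ⟶ (Q.obj M)⟦n⟧` in the derived category is the class `cls a ha` of a "cocycle"
`a : P ⟶ M.X n`, `a ≫ d = 0`, and this class vanishes iff `a` is a "coboundary".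
-/

set_option autoImplicit false
universe w v u

namespace Groth.Agent.H5.HDULib

open CategoryTheory Limits DerivedCategory CochainComplex HomComplex

variable {A : Type u} [Category.{v} A] [Abelian A] [HasDerivedCategory.{w} A]

instance hasSmall (S M : CochainComplex A ℤ) :
    Localization.HasSmallLocalizedShiftedHom.{w}
      (HomologicalComplex.quasiIso A (ComplexShape.up ℤ)) ℤ S M :=
  (Localization.hasSmallLocalizedShiftedHom_iff _ ℤ Q S M).2 (fun _ _ => inferInstance)

/-- Cohomology classes of the Hom complex into a K-injective complex are the morphisms in the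
derived category. -/
noncomputable def Θ (S M : CochainComplex A ℤ) [M.IsKInjective] (n : ℤ) :
    CohomologyClass S M n ≃ (Q.obj S ⟶ (Q.obj M)⟦n⟧) :=
  CohomologyClass.equivOfIsKInjective.trans (Localization.SmallShiftedHom.equiv _ Q)

theorem Θ_mk (S M : CochainComplex A ℤ) [M.IsKInjective] (n : ℤ) (x : Cocycle S M n) :
    Θ S M n (CohomologyClass.mk x) =
      Q.map (Cocycle.equivHomShift.symm x) ≫ (Q.commShiftIso n).hom.app M := by
  change Localization.SmallShiftedHom.equiv _ Q (CohomologyClass.mk x).toSmallShiftedHom = _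
  rw [CohomologyClass.equiv_toSmallShiftedHom_mk]
  rfl

theorem Θ_zero (S M : CochainComplex A ℤ) [M.IsKInjective] (n : ℤ) :
    Θ S M n 0 = 0 := by
  rw [← CohomologyClass.mk_zero, Θ_mk, map_zero, Functor.map_zero, zero_comp]

variable (P : A) (M : CochainComplex A ℤ) [M.IsKInjective] (n : ℤ)

/-- The class in the derived category of a cocycle `a : P ⟶ M.X n`. -/
noncomputable def cls (a : P ⟶ M.X n) (ha : a ≫ M.d n (n + 1) = 0) :
    Q.obj ((CochainComplex.singleFunctor A 0).obj P) ⟶ (Q.obj M)⟦n⟧ :=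
  Θ _ M n (CohomologyClass.mk (Cocycle.fromSingleMk a (zero_add n) (n + 1) rfl ha))

theorem cls_surjective (y : Q.obj ((CochainComplex.singleFunctor A 0).obj P) ⟶ (Q.obj M)⟦n⟧) :
    ∃ (a : P ⟶ M.X n) (ha : a ≫ M.d n (n + 1) = 0), cls P M n a ha = y := by
  obtain ⟨x, rfl⟩ := (Θ _ M n).surjective y
  obtain ⟨z, rfl⟩ := x.mk_surjective
  obtain ⟨a, ha, rfl⟩ := Cocycle.fromSingleMk_surjective z n (zero_add n) (n + 1) rfl
  exact ⟨a, ha, rfl⟩

theorem cls_eq_zero_iff (a : P ⟶ M.X n) (ha : a ≫ M.d n (n + 1) = 0) (m : ℤ) (hm : m + 1 = n) :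
    cls P M n a ha = 0 ↔ ∃ b : P ⟶ M.X m, b ≫ M.d m n = a := by
  rw [← Cocycle.fromSingleMk_mem_coboundaries_iff a (zero_add n) (n + 1) rfl ha m hm,
    ← CohomologyClass.mk_eq_zero_iff]
  constructor
  · intro h
    apply (Θ _ M n).injective
    rw [Θ_zero]
    exact h
  · intro h
    rw [cls, h, Θ_zero]

theorem cls_precomp {P' : A} (g : P' ⟶ P) (a : P ⟶ M.X n) (ha : a ≫ M.d n (n + 1) = 0) :
    Q.map ((CochainComplex.singleFunctor A 0).map g) ≫ cls P M n a ha =
      cls P' M n (g ≫ a) (by rw [Category.assoc, ha, comp_zero]) := by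
  rw [cls, cls, Θ_mk, Θ_mk, Cocycle.fromSingleMk_precomp g a (zero_add n) (n + 1) rfl ha,
    Cocycle.equivHomShift_symm_precomp, Functor.map_comp, Category.assoc]

end Groth.Agent.H5.HDULib
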