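import Groth.Prelude.Def_FreeSh
import Groth.Agent.H5.HDU.Cls
import Mathlib.CategoryTheory.Sites.LocallySurjective
import Mathlib.CategoryTheory.Sites.EpiMono

/-!
# Hypercohomology groups `H^n(U, K)` on a site via K-injective complexes

For a K-injective complex `M` of abelian sheaves on a small site and `K ≅ Q.obj M`:
* `subsingleton_HDU_iff` : `H^n(U, K) = 0` iff the complex of sections `M(U)` is exact in degree `n`
  (`SecExact`);
* `exact_of_locally` : a criterion for the exactness of a short complex of sheaves;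
* `clM` : the natural map from the sections of `ker (M⁰ ⟶ M¹)` to `H^0(-, Q.obj M)`, which is
  surjective (`clM_surjective`) with kernel the coboundaries (`clM_eq_zero_iff`).
-/

set_option autoImplicit false
universe w u

namespace Groth.Agent.H5.HDULib

open CategoryTheory Limits Opposite

variable {C : Type u} [SmallCategory C] (J : GrothendieckTopology C)

/-- The map on sections over `U` induced by a morphism of sheaves. -/
abbrev sec {F G : Sheaf J AddCommGrpCat.{u}} (φ : F ⟶ G) (U : C) :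
    F.obj.obj (op U) →+ G.obj.obj (op U) := (φ.hom.app (op U)).hom

theorem sec_comp {F G H : Sheaf J AddCommGrpCat.{u}} (φ : F ⟶ G) (ψ : G ⟶ H) (U : C)
    (t : F.obj.obj (op U)) : sec J (φ ≫ ψ) U t = sec J ψ U (sec J φ U t) := rfl

theorem sec_id (F : Sheaf J AddCommGrpCat.{u}) (U : C) (t : F.obj.obj (op U)) :
    sec J (𝟙 F) U t = t := rfl

theorem sec_zero {F G : Sheaf J AddCommGrpCat.{u}} (U : C) (t : F.obj.obj (op U)) :
    sec J (0 : F ⟶ G) U t = 0 := rfl

theorem sec_add {F G : Sheaf J AddCommGrpCat.{u}} (φ ψ : F ⟶ G) (U : C) (t : F.obj.obj (op U)) :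
    sec J (φ + ψ) U t = sec J φ U t + sec J ψ U t := by
  change ((φ + ψ).hom.app (op U)).hom t = _
  rw [Sheaf.Hom.add_app]
  rfl

theorem sec_map {F G : Sheaf J AddCommGrpCat.{u}} (φ : F ⟶ G) {U V : C} (i : V ⟶ U)
    (t : F.obj.obj (op U)) :
    sec J φ V ((F.obj.map i.op).hom t) = (G.obj.map i.op).hom (sec J φ U t) :=
  (ConcreteCategory.congr_hom (φ.hom.naturality i.op) t)

theorem evalGen_comp (U : C) {F G : Sheaf J AddCommGrpCat.{u}} (a : CohCx.freeSheaf J U ⟶ F)
    (φ : F ⟶ G) :
    CohFree.evalGen J U G (a ≫ φ) = sec J φ U (CohFree.evalGen J U F a) := rfl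

theorem ofSect_zero (U : C) (F : Sheaf J AddCommGrpCat.{u}) : CohFree.ofSect J U F 0 = 0 :=
  (CohFree.homEquivSect J U F).symm.map_zero

theorem ofSect_add (U : C) (F : Sheaf J AddCommGrpCat.{u}) (s t : F.obj.obj (op U)) :
    CohFree.ofSect J U F (s + t) = CohFree.ofSect J U F s + CohFree.ofSect J U F t :=
  (CohFree.homEquivSect J U F).symm.map_add s t

theorem ofSect_comp (U : C) {F G : Sheaf J AddCommGrpCat.{u}} (φ : F ⟶ G) (t : F.obj.obj (op U)) :
    CohFree.ofSect J U G (sec J φ U t) = CohFree.ofSect J U F t ≫ φ := by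
  apply (CohFree.homEquivSect J U G).injective
  rw [CohFree.homEquivSect_apply, CohFree.homEquivSect_apply, CohFree.evalGen_ofSect,
    evalGen_comp, CohFree.evalGen_ofSect]

theorem ofSect_map {U V : C} (i : V ⟶ U) (F : Sheaf J AddCommGrpCat.{u}) (t : F.obj.obj (op U)) :
    CohFree.ofSect J V F ((F.obj.map i.op).hom t) =
      CohCx.freeSheafMap J i ≫ CohFree.ofSect J U F t := by
  apply (CohFree.homEquivSect J V F).injective
  rw [CohFree.homEquivSect_apply, CohFree.homEquivSect_apply, CohFree.evalGen_ofSect,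
    CohFree.evalGen_freeSheafMap_comp, CohFree.evalGen_ofSect]

theorem sec_injective_of_mono {F G : Sheaf J AddCommGrpCat.{u}} (φ : F ⟶ G) [Mono φ] (U : C) :
    Function.Injective (sec J φ U) := by
  intro s s' h
  have h1 : CohFree.ofSect J U F s ≫ φ = CohFree.ofSect J U F s' ≫ φ := by
    rw [← ofSect_comp, ← ofSect_comp, h]
  have h2 := congrArg (CohFree.evalGen J U F) ((cancel_mono φ).1 h1)
  rwa [CohFree.evalGen_ofSect, CohFree.evalGen_ofSect] at h2

theorem sec_kernel_condition {F G : Sheaf J AddCommGrpCat.{u}} (d : F ⟶ G) (U : C)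
    (s : (kernel d).obj.obj (op U)) : sec J d U (sec J (kernel.ι d) U s) = 0 := by
  rw [← sec_comp, kernel.condition, sec_zero]

theorem exists_sec_kernel {F G : Sheaf J AddCommGrpCat.{u}} (d : F ⟶ G) (U : C)
    (t : F.obj.obj (op U)) (ht : sec J d U t = 0) :
    ∃ s : (kernel d).obj.obj (op U), sec J (kernel.ι d) U s = t := by
  have h0 : CohFree.ofSect J U F t ≫ d = 0 := by
    rw [← ofSect_comp, ht, ofSect_zero]
  refine ⟨CohFree.evalGen J U _ (kernel.lift d _ h0), ?_⟩
  rw [← evalGen_comp, kernel.lift_ι, CohFree.evalGen_ofSect]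

/-- A short complex of abelian sheaves is exact if every section killed by `g` is locally in the
image of `f`. -/
theorem exact_of_locally (S : ShortComplex (Sheaf J AddCommGrpCat.{u}))
    (h : ∀ (U : C) (t : S.X₂.obj.obj (op U)), sec J S.g U t = 0 →
      ∃ R ∈ J U, ∀ (V : C) (i : V ⟶ U), R i →
        ∃ r : S.X₁.obj.obj (op V), sec J S.f V r = (S.X₂.obj.map i.op).hom t) :
    S.Exact := by
  rw [S.exact_iff_epi_kernel_lift, ← Sheaf.isLocallySurjective_iff_epi']
  constructor
  intro U s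
  obtain ⟨R, hR, hR'⟩ := h U (sec J (kernel.ι S.g) U s) (sec_kernel_condition J S.g U s)
  refine J.superset_covering ?_ hR
  intro V i hi
  obtain ⟨r, hr⟩ := hR' V i hi
  refine ⟨r, ?_⟩
  apply sec_injective_of_mono J (kernel.ι S.g) V
  change sec J (kernel.ι S.g) V (sec J (kernel.lift S.g S.f S.zero) V r) =
    sec J (kernel.ι S.g) V (((kernel S.g).obj.map i.op).hom s)
  rw [← sec_comp, kernel.lift_ι, hr, sec_map]

section HDU

variable (M : CochainComplex (Sheaf J AddCommGrpCat.{u}) ℤ)

/-- The complex of sections of `M` over `U` is exact in degree `n`. -/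
def SecExact (n : ℤ) (U : C) : Prop :=
  ∀ t : (M.X n).obj.obj (op U), sec J (M.d n (n + 1)) U t = 0 →
    ∃ r : (M.X (n - 1)).obj.obj (op U), sec J (M.d (n - 1) n) U r = t

variable [HasDerivedCategory.{w} (Sheaf J AddCommGrpCat.{u})] [M.IsKInjective]

theorem subsingleton_HDU_iff (K : DerivedCategory (Sheaf J AddCommGrpCat.{u}))
    (e : DerivedCategory.Q.obj M ≅ K) (n : ℤ) (U : C) :
    Subsingleton (CohCx.HDU K n U) ↔ SecExact J M n U := by
  have e1 : CohCx.HDU K n U ≃
      (DerivedCategory.Q.obj ((CochainComplex.singleFunctor _ 0).obj (CohCx.freeSheaf J U)) ⟶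
        (DerivedCategory.Q.obj M)⟦n⟧) :=
    (Iso.homCongr (Iso.refl _) ((shiftFunctor _ n).mapIso e)).symm
  rw [e1.subsingleton_congr]
  constructor
  · intro hs t ht
    have ha : CohFree.ofSect J U _ t ≫ M.d n (n + 1) = 0 := by
      rw [← ofSect_comp, ht, ofSect_zero]
    have h0 : cls _ M n _ ha = 0 := Subsingleton.elim _ _
    obtain ⟨b, hb⟩ := (cls_eq_zero_iff _ M n _ ha (n - 1) (by simp)).1 h0
    refine ⟨CohFree.evalGen J U _ b, ?_⟩
    rw [← evalGen_comp, hb, CohFree.evalGen_ofSect]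
  · intro hs
    suffices h0 : ∀ y : (DerivedCategory.Q.obj ((CochainComplex.singleFunctor _ 0).obj
        (CohCx.freeSheaf J U)) ⟶ (DerivedCategory.Q.obj M)⟦n⟧), y = 0 from
      ⟨fun y y' => by rw [h0 y, h0 y']⟩
    intro y
    obtain ⟨a, ha, rfl⟩ := cls_surjective _ M n y
    rw [cls_eq_zero_iff _ M n a ha (n - 1) (by simp)]
    obtain ⟨r, hr⟩ := hs (CohFree.evalGen J U _ a) (by
      rw [← evalGen_comp, ha]; rfl)
    refine ⟨CohFree.ofSect J U _ r, ?_⟩
    rw [← ofSect_comp, hr, CohFree.ofSect_evalGen]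

end HDU

end Groth.Agent.H5.HDULib
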