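import Groth.Agent.H5.HDU.Site

/-!
# The presheaf `U ↦ H^0(U, Q.obj M)` as a quotient of the sections of `ker (M⁰ ⟶ M¹)`
-/

set_option autoImplicit false
universe u

namespace Groth.Agent.H5.HDULib

open CategoryTheory Limits Opposite

variable {C : Type u} [SmallCategory C] (J : GrothendieckTopology C)
  [HasDerivedCategory.{u} (Sheaf J AddCommGrpCat.{u})]

/-- The functor `U ↦ ℤ_U[0]` to the derived category. -/
noncomputable abbrev G : C ⥤ DerivedCategory (Sheaf J AddCommGrpCat.{u}) :=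
  yoneda ⋙ (Functor.whiskeringRight _ _ _).obj AddCommGrpCat.free.{u} ⋙
    presheafToSheaf J AddCommGrpCat.{u} ⋙ DerivedCategory.singleFunctor (Sheaf J AddCommGrpCat.{u}) 0

theorem HDUPresheaf_eq (K : DerivedCategory (Sheaf J AddCommGrpCat.{u})) (n : ℤ) :
    CohCx.HDUPresheaf K n = (G J).op ⋙ preadditiveYoneda.obj
      ((shiftFunctor (DerivedCategory (Sheaf J AddCommGrpCat.{u})) n).obj K) := rfl

theorem G_map {U V : C} (i : V ⟶ U) :
    (G J).map i = (DerivedCategory.singleFunctor (Sheaf J AddCommGrpCat.{u}) 0).map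
      (CohCx.freeSheafMap J i) := rfl

/-- The Yoneda-type natural transformation `F(U) → Hom(ℤ_U[0], F[0])`. -/
noncomputable def yon (F : Sheaf J AddCommGrpCat.{u}) :
    F.obj ⟶ (G J).op ⋙ preadditiveYoneda.obj
      ((DerivedCategory.singleFunctor (Sheaf J AddCommGrpCat.{u}) 0).obj F) where
  app U := AddCommGrpCat.ofHom
    { toFun := fun s => (DerivedCategory.singleFunctor (Sheaf J AddCommGrpCat.{u}) 0).map
        (CohFree.ofSect J U.unop F s)
      map_zero' := by
        change (DerivedCategory.singleFunctor (Sheaf J AddCommGrpCat.{u}) 0).map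
          (CohFree.ofSect J U.unop F 0) = 0
        rw [ofSect_zero, Functor.map_zero]
      map_add' := fun s t => by
        change (DerivedCategory.singleFunctor (Sheaf J AddCommGrpCat.{u}) 0).map
          (CohFree.ofSect J U.unop F (s + t)) = _
        rw [ofSect_add, Functor.map_add]
        rfl }
  naturality U V i := by
    ext s
    change (DerivedCategory.singleFunctor (Sheaf J AddCommGrpCat.{u}) 0).map
        (CohFree.ofSect J V.unop F ((F.obj.map i.unop.op).hom s)) =
      (G J).map i.unop ≫ (DerivedCategory.singleFunctor (Sheaf J AddCommGrpCat.{u}) 0).map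
        (CohFree.ofSect J U.unop F s)
    rw [ofSect_map, Functor.map_comp, G_map]

theorem yon_app (F : Sheaf J AddCommGrpCat.{u}) (U : C) (s : F.obj.obj (op U)) :
    ((yon J F).app (op U)).hom s =
      (DerivedCategory.singleFunctor (Sheaf J AddCommGrpCat.{u}) 0).map (CohFree.ofSect J U F s) :=
  rfl

/-- The natural transformation `F(U) → Hom(ℤ_U[0], N)` attached to a morphism `F[0] ⟶ N`. -/
noncomputable def yonTo (F : Sheaf J AddCommGrpCat.{u})
    {N : DerivedCategory (Sheaf J AddCommGrpCat.{u})}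
    (c : (DerivedCategory.singleFunctor (Sheaf J AddCommGrpCat.{u}) 0).obj F ⟶ N) :
    F.obj ⟶ (G J).op ⋙ preadditiveYoneda.obj N :=
  yon J F ≫ Functor.whiskerLeft (G J).op (preadditiveYoneda.map c)

theorem yonTo_app (F : Sheaf J AddCommGrpCat.{u})
    {N : DerivedCategory (Sheaf J AddCommGrpCat.{u})}
    (c : (DerivedCategory.singleFunctor (Sheaf J AddCommGrpCat.{u}) 0).obj F ⟶ N)
    (U : C) (s : F.obj.obj (op U)) :
    ((yonTo J F c).app (op U)).hom s =
      (DerivedCategory.singleFunctor (Sheaf J AddCommGrpCat.{u}) 0).map (CohFree.ofSect J U F s) ≫ c :=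
  rfl

variable (M : CochainComplex (Sheaf J AddCommGrpCat.{u}) ℤ) [M.IsKInjective]

/-- The class of the universal degree `0` cocycle. -/
noncomputable def cM :
    (DerivedCategory.singleFunctor (Sheaf J AddCommGrpCat.{u}) 0).obj (kernel (M.d 0 1)) ⟶
      (DerivedCategory.Q.obj M)⟦(0 : ℤ)⟧ :=
  cls (kernel (M.d 0 1)) M 0 (kernel.ι (M.d 0 1)) (kernel.condition (M.d 0 1))

/-- The natural map from degree `0` cocycles to `H^0(-, Q.obj M)`. -/
noncomputable def clM : (kernel (M.d 0 1)).obj ⟶ CohCx.HDUPresheaf (DerivedCategory.Q.obj M) 0 :=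
  yonTo J (kernel (M.d 0 1)) (cM J M)

theorem clM_app (U : C) (s : (kernel (M.d 0 1)).obj.obj (op U)) :
    ((clM J M).app (op U)).hom s = cls (CohCx.freeSheaf J U) M 0
      (CohFree.ofSect J U _ s ≫ kernel.ι (M.d 0 1))
      (by rw [Category.assoc]; erw [kernel.condition]; rw [comp_zero]) := by
  change (DerivedCategory.singleFunctor (Sheaf J AddCommGrpCat.{u}) 0).map
    (CohFree.ofSect J U _ s) ≫ cM J M = _
  exact cls_precomp (kernel (M.d 0 1)) M 0 (CohFree.ofSect J U _ s) (kernel.ι (M.d 0 1))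
    (kernel.condition (M.d 0 1))

theorem clM_surjective (U : C) (y : CohCx.HDU (DerivedCategory.Q.obj M) 0 U) :
    ∃ s : (kernel (M.d 0 1)).obj.obj (op U), ((clM J M).app (op U)).hom s = y := by
  obtain ⟨a, ha, rfl⟩ := cls_surjective (CohCx.freeSheaf J U) M 0 y
  refine ⟨CohFree.evalGen J U _ (kernel.lift (M.d 0 1) a ha), ?_⟩
  rw [clM_app]
  congr 1
  rw [CohFree.ofSect_evalGen, kernel.lift_ι]

theorem clM_eq_zero_iff (U : C) (s : (kernel (M.d 0 1)).obj.obj (op U)) :
    ((clM J M).app (op U)).hom s = 0 ↔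
      ∃ r : (M.X (-1)).obj.obj (op U), sec J (M.d (-1) 0) U r = sec J (kernel.ι (M.d 0 1)) U s := by
  have ha : (CohFree.ofSect J U _ s ≫ kernel.ι (M.d 0 1)) ≫ M.d 0 (0 + 1) = 0 := by
    rw [Category.assoc]; erw [kernel.condition]; rw [comp_zero]
  have key : ((clM J M).app (op U)).hom s = 0 ↔ cls (CohCx.freeSheaf J U) M 0
      (CohFree.ofSect J U _ s ≫ kernel.ι (M.d 0 1)) ha = 0 :=
    ⟨fun h => (clM_app J M U s).symm.trans h, fun h => (clM_app J M U s).trans h⟩
  rw [key, cls_eq_zero_iff _ M 0 _ _ (-1) (by simp)]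
  constructor
  · rintro ⟨b, hb⟩
    refine ⟨CohFree.evalGen J U _ b, ?_⟩
    rw [← evalGen_comp, hb, evalGen_comp, CohFree.evalGen_ofSect]
  · rintro ⟨r, hr⟩
    refine ⟨CohFree.ofSect J U _ r, ?_⟩
    rw [← ofSect_comp, hr, ofSect_comp]

end Groth.Agent.H5.HDULib
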